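import Cfsg.Agent.H955.L34.TwoNinesOf
import Cfsg.Agent.H902.L34.NoNine

/-!
# S5917, box D2 (S-side of type D): the decomposition of the vectors fixed by the unitary group (helper955)
-/

set_option autoImplicit false
set_option linter.unusedSectionVars false

namespace Cfsg.Agent.H955.L34

open Matrix Cfsg.Agent.H691.L34 Module Cfsg.Agent.H904.L34

variable {F : Type} [Field F] [Fintype F] {V : Type} [AddCommGroup V] [Module (ZMod 2) V] [Module.Finite (ZMod 2) V]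
  {ρ : Representation (ZMod 2) (G3 F) V} {B : LinearMap.BilinForm (ZMod 2) V}

/-- **D2** : submodules of both types 9 and no fixed vector; every vector fixed by the unitary group is the sum of a trace
of a vector fixed by `E` and of an element of the sum of the two submodules -/
theorem two_nines {E : Subgroup (G3 F)} (hE : ∀ g : G3 F, g ∈ E ↔ (hact g (1 : M3 F) = 1 ∧ g ^ 3 = 1)) {i j : G3 F}
    (hi1 : hact i (1 : M3 F) = 1) (hj1 : hact j (1 : M3 F) = 1)
    (hgen : ∀ v : V, v ∈ VE ρ E → ρ i v = v → ρ j v = v → ∀ g, hact g (1 : M3 F) = 1 → ρ g v = v)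
    (hF : Fintype.card F = 4) (hc : CT ρ) {n5 n7 : ℕ} (hn5 : n5 = 68 ∨ n5 = 48)
    (hn7 : n7 = 80 ∨ n7 = 38) (hd : Dims ρ (⊤ : Submodule (ZMod 2) V) 248 86 n5 n7)
    (hB : B.Nondegenerate) (hs : ∀ x y, B x y = B y x)
    (hi : ∀ g x y, B (ρ g x) (ρ g y) = B x y) (h0 : fixAll ρ = ⊥) {b : Bool} {N N' : Submodule (ZMod 2) V}
    (hN : IsNine ρ b N) (hN' : IsNine ρ (!b) N') {v : V} (hv : ∀ g : G3 F, hact g (1 : M3 F) = 1 → ρ g v = v) :
    ∃ u : V, (∀ e ∈ E, ρ e u = u) ∧ ∃ w ∈ N ⊔ N', (∀ g : G3 F, hact g (1 : M3 F) = 1 → ρ g w = w) ∧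
      v = trR ρ u + w := by
  refine two_nines_of hE hi1 hj1 hgen hF hc (fun A X hA hX hAX hn => ?_) hn5 hn7 hd hB hs hi h0 hN hN' hv
  have hn' : Cfsg.Agent.H902.NN.Num ρ A X 4 1 0 3 := hn
  refine ⟨Cfsg.Agent.H902.NN.nonine_fix hF hc hA hX hAX hn', fun v hv hR => ?_⟩
  exact Cfsg.Agent.H902.NN.nonine_tr hF hc hA hX hAX hn' hE hv hR

end Cfsg.Agent.H955.L34
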