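import Cfsg.Agent.H904.L34.Last
import Cfsg.Agent.H118.L34.PL

/-!
# S5917, box D2 (S-side of type D): the invariant form and the fixed spaces of subgroups of odd order (helper955)
-/

set_option autoImplicit false
set_option linter.unusedSectionVars false

namespace Cfsg.Agent.H955.L34

open Matrix Cfsg.Agent.H691.L34 Module Cfsg.Agent.H904.L34

section lin

variable {V : Type*} [AddCommGroup V] [Module (ZMod 2) V] [Module.Finite (ZMod 2) V]

theorem vadd_self (v : V) : v + v = 0 := by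
  have h : (2 : ZMod 2) • v = v + v := two_smul _ v
  have h2 : (2 : ZMod 2) = 0 := rfl
  rw [← h, h2, zero_smul]

theorem vneg (v : V) : -v = v := neg_eq_of_add_eq_zero_left (vadd_self v)

theorem vsub (v w : V) : v - w = v + w := by rw [sub_eq_add_neg, vneg]

theorem finrank_prod_self (A : Submodule (ZMod 2) V) :
    finrank (ZMod 2) (A.prod A : Submodule (ZMod 2) (V × V)) = 2 * finrank (ZMod 2) A := by
  have h1 : LinearMap.range (A.subtype.prodMap A.subtype) = A.prod A := by
    rw [LinearMap.range_prodMap, Submodule.range_subtype]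
  have h2 : Function.Injective (A.subtype.prodMap A.subtype) := by
    intro x y h
    have h3 : ((x.1 : V), (x.2 : V)) = ((y.1 : V), (y.2 : V)) := h
    exact Prod.ext (Subtype.ext (congrArg Prod.fst h3)) (Subtype.ext (congrArg Prod.snd h3))
  rw [← h1, LinearMap.finrank_range_of_inj h2, finrank_prod]
  ring

/-- two maps into the same space -/
theorem two_maps {D A K : Submodule (ZMod 2) V} {f g : V →ₗ[ZMod 2] V} (hf : ∀ x ∈ D, f x ∈ A)
    (hg : ∀ x ∈ D, g x ∈ A) (hK : ∀ x ∈ D, f x = 0 → g x = 0 → x ∈ K) :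
    finrank (ZMod 2) D ≤ 2 * finrank (ZMod 2) A + finrank (ZMod 2) K ∧
    (2 * finrank (ZMod 2) A + finrank (ZMod 2) K ≤ finrank (ZMod 2) D → ∀ a ∈ A, ∃ x ∈ D, f x = a) := by
  have h1 := finrank_map_add (f.prod g) D
  have h2 : D.map (f.prod g) ≤ A.prod A := by
    rintro _ ⟨x, hx, rfl⟩
    exact ⟨hf x hx, hg x hx⟩
  have h3 := finrank_prod_self A
  have h4 : D ⊓ LinearMap.ker (f.prod g) ≤ K := by
    rintro x ⟨hx, hx2⟩
    have h5 : (f x, g x) = (0 : V × V) := hx2
    exact hK x hx (congrArg Prod.fst h5) (congrArg Prod.snd h5)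
  have h5 := Submodule.finrank_mono h2
  have h6 := Submodule.finrank_mono h4
  refine ⟨by omega, fun h a ha => ?_⟩
  have h7 : D.map (f.prod g) = A.prod A := Submodule.eq_of_le_of_finrank_le h2 (by omega)
  have h8 : ((a, 0) : V × V) ∈ D.map (f.prod g) := by
    rw [h7]
    exact ⟨ha, A.zero_mem⟩
  obtain ⟨x, hx, h9⟩ := h8
  exact ⟨x, hx, congrArg Prod.fst h9⟩

end lin

section form

variable {G : Type*} [Group G] [Finite G] {V : Type*} [AddCommGroup V] [Module (ZMod 2) V] [Module.Finite (ZMod 2) V]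
  {ρ : Representation (ZMod 2) G V} {B : LinearMap.BilinForm (ZMod 2) V}

theorem mul_ap (g h : G) (x : V) : ρ (g * h) x = ρ g (ρ h x) := by
  rw [map_mul]
  rfl

theorem inv_ap (g : G) (x : V) : ρ g⁻¹ (ρ g x) = x := by
  rw [← mul_ap, inv_mul_cancel, map_one]
  rfl

theorem ap_inv (g : G) (x : V) : ρ g (ρ g⁻¹ x) = x := by
  rw [← mul_ap, mul_inv_cancel, map_one]
  rfl

theorem form_inv (hi : ∀ g x y, B (ρ g x) (ρ g y) = B x y) (g : G) (x y : V) : B x (ρ g y) = B (ρ g⁻¹ x) y := by
  rw [← hi g (ρ g⁻¹ x) y, ap_inv]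

/-- a vector fixed by a subgroup of odd order is orthogonal to `W`, if it is orthogonal to the fixed vectors in `W` -/
theorem orth_of (hi : ∀ g x y, B (ρ g x) (ρ g y) = B x y) {C : Subgroup G} (hC : Odd (Nat.card C))
    {W : Submodule (ZMod 2) V} (hW : ∀ g, ∀ w ∈ W, ρ g w ∈ W) {v : V} (hv : v ∈ VE ρ C)
    (h : ∀ w ∈ VE ρ C ⊓ W, B v w = 0) : ∀ w ∈ W, B v w = 0 := by
  letI := Fintype.ofFinite G
  letI := Fintype.ofFinite C
  intro w hw
  have h1 := h (av ρ C w) ⟨av_mem ρ C w, av_mem_of_inv ρ W hW hw⟩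
  rw [av_apply, map_sum] at h1
  have h2 : ∀ g : C, B v (ρ (g : G) w) = B v w := by
    intro g
    rw [form_inv hi, mem_VE.1 hv _ (C.inv_mem g.2)]
  rw [Finset.sum_congr rfl (fun g _ => h2 g), Finset.sum_const, Finset.card_univ, ← Nat.card_eq_fintype_card,
    odd_smul hC] at h1
  exact h1

/-- the fixed spaces on the orthogonal space -/
theorem finrank_VE_orth (hB : B.Nondegenerate) (hs : ∀ x y, B x y = B y x) (hi : ∀ g x y, B (ρ g x) (ρ g y) = B x y)
    {C : Subgroup G} (hC : Odd (Nat.card C)) {W : Submodule (ZMod 2) V} (hW : ∀ g, ∀ w ∈ W, ρ g w ∈ W) :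
    finrank (ZMod 2) (VE ρ C ⊓ B.orthogonal W : Submodule (ZMod 2) V) +
      finrank (ZMod 2) (VE ρ C ⊓ W : Submodule (ZMod 2) V) = finrank (ZMod 2) (VE ρ C) := by
  have hrefl : B.IsRefl := fun x y h => by rw [hs]; exact h
  have hdis : Disjoint (VE ρ C) (B.orthogonal (VE ρ C)) := by
    rw [Submodule.disjoint_def]
    intro v hv hv2
    rw [LinearMap.BilinForm.mem_orthogonal_iff] at hv2
    have h1 := orth_of hi hC (W := ⊤) (fun _ _ _ => Submodule.mem_top) hv (fun w hw => by
      have h2 : B w v = 0 := hv2 w hw.1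
      rw [hs]
      exact h2)
    exact hB.1 v (fun w => h1 w Submodule.mem_top)
  have hnd := LinearMap.BilinForm.nondegenerate_restrict_of_disjoint_orthogonal B hrefl hdis
  have h1 := LinearMap.BilinForm.finrank_orthogonal hnd (W.comap (VE ρ C).subtype)
  have hmap : ∀ X : Submodule (ZMod 2) V, finrank (ZMod 2) (X.comap (VE ρ C).subtype) =
      finrank (ZMod 2) (VE ρ C ⊓ X : Submodule (ZMod 2) V) := by
    intro X
    rw [← Submodule.map_comap_subtype, Submodule.finrank_map_subtype_eq]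
  have h2 : (B.restrict (VE ρ C)).orthogonal (W.comap (VE ρ C).subtype) =
      (B.orthogonal W).comap (VE ρ C).subtype := by
    ext v
    rw [LinearMap.BilinForm.mem_orthogonal_iff, Submodule.mem_comap, LinearMap.BilinForm.mem_orthogonal_iff]
    constructor
    · intro h w hw
      have h3 := orth_of hi hC hW v.2 (fun w hw => by
        have h4 : B w v.1 = 0 := h ⟨w, hw.1⟩ hw.2
        rw [hs]
        exact h4) w hw
      show B w v.1 = 0
      rw [hs]
      exact h3
    · intro h w hw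
      exact h w.1 hw
  rw [h2, hmap, hmap] at h1
  have h3 : finrank (ZMod 2) (VE ρ C ⊓ W : Submodule (ZMod 2) V) ≤ finrank (ZMod 2) (VE ρ C) :=
    Submodule.finrank_mono inf_le_left
  omega

/-- the fixed space of a subgroup of odd order on `D`, if the group acts trivially on `D / A` -/
theorem finrank_VE_triv {C : Subgroup G} (hC : Odd (Nat.card C)) {A D : Submodule (ZMod 2) V} (hAD : A ≤ D)
    (hD : ∀ x ∈ D, ∀ g, ρ g x - x ∈ A) :
    finrank (ZMod 2) D + finrank (ZMod 2) (VE ρ C ⊓ A : Submodule (ZMod 2) V) =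
      finrank (ZMod 2) (VE ρ C ⊓ D : Submodule (ZMod 2) V) + finrank (ZMod 2) A := by
  have h1 : (VE ρ C ⊓ D) ⊔ A = D := by
    apply le_antisymm
    · exact sup_le inf_le_right hAD
    · intro x hx
      have h2 := av_sub_mem ρ hC A (v := x) (fun g _ => hD x hx g)
      have h3 : av ρ C x ∈ D := by
        have h4 := D.add_mem (hAD h2) hx
        rwa [sub_add_cancel] at h4
      rw [Submodule.mem_sup]
      refine ⟨av ρ C x, ⟨av_mem ρ C x, h3⟩, x - av ρ C x, ?_, by abel⟩
      rw [← neg_sub]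
      exact A.neg_mem h2
  have h2 := Submodule.finrank_sup_add_finrank_inf_eq (VE ρ C ⊓ D) A
  rw [h1, inf_assoc, inf_eq_right.2 hAD] at h2
  exact h2

end form

end Cfsg.Agent.H955.L34
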