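import Cfsg.Agent.H955.L34.Form
import Cfsg.Agent.H20.LF.Alpha
import Cfsg.Agent.H592.L34.NineIn
import Cfsg.Agent.H360.L34.NineDims

/-!
# S5917, box D2 (S-side of type D): the vectors fixed by the unitary group, if there are submodules of both types 9
(helper955)
-/

set_option autoImplicit false
set_option linter.unusedSectionVars false

namespace Cfsg.Agent.H955.L34

open Matrix Cfsg.Agent.H691.L34 Module Cfsg.Agent.H904.L34

variable {F : Type} [Field F] [Fintype F] {V : Type} [AddCommGroup V] [Module (ZMod 2) V] [Module.Finite (ZMod 2) V]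
  {ρ : Representation (ZMod 2) (G3 F) V} {B : LinearMap.BilinForm (ZMod 2) V}

/-- the invariant form is alternating, if there are no fixed vectors -/
theorem alt_of (hB : B.Nondegenerate) (hs : ∀ x y, B x y = B y x) (hi : ∀ g x y, B (ρ g x) (ρ g y) = B x y)
    (h0 : fixAll ρ = ⊥) (x : V) : B x x = 0 := by
  let q : V →ₗ[ZMod 2] ZMod 2 :=
    { toFun := fun x => B x x
      map_add' := by
        intro x y
        have h2 : ∀ c : ZMod 2, c + c = 0 := by decide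
        have h3 := h2 (B x y)
        have h4 : B (x + y) (x + y) = B x x + B x y + (B y x + B y y) := by
          simp only [map_add, LinearMap.add_apply]
          ring
        rw [h4, hs y x]
        linear_combination h3
      map_smul' := by
        intro c x
        have h2 : ∀ c d : ZMod 2, c * (c * d) = c * d := by decide
        show B (c • x) (c • x) = c * B x x
        simp only [map_smul, LinearMap.smul_apply, smul_eq_mul, h2] }
  set f := (B.toDual hB).symm q with hf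
  have hfq : ∀ y, B f y = q y := by
    intro y
    have h1 : B.toDual hB f y = q y := by rw [hf, LinearEquiv.apply_symm_apply]
    exact h1
  have hfix : f ∈ fixAll ρ := by
    intro g
    have h1 : ∀ y, B (ρ g f - f) y = 0 := by
      intro y
      rw [map_sub, LinearMap.sub_apply, hfq]
      have h2 : B (ρ g f) y = B f (ρ g⁻¹ y) := by
        rw [← hi g f (ρ g⁻¹ y), ap_inv]
      rw [h2, hfq]
      show B (ρ g⁻¹ y) (ρ g⁻¹ y) - B y y = 0
      rw [hi, sub_self]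
    exact sub_eq_zero.1 (hB.1 _ h1)
  rw [h0, Submodule.mem_bot] at hfix
  have h1 := hfq x
  rw [hfix, map_zero, LinearMap.zero_apply] at h1
  exact h1.symm

section nine

variable {E : Subgroup (G3 F)} (hE : ∀ g : G3 F, g ∈ E ↔ (hact g (1 : M3 F) = 1 ∧ g ^ 3 = 1))

include hE

theorem nine_VE (hF : Fintype.card F = 4) (hc : CT ρ) {b : Bool} {W : Submodule (ZMod 2) V} (h : IsNine ρ b W) :
    finrank (ZMod 2) (VE ρ E ⊓ W : Submodule (ZMod 2) V) = 1 := by
  have h1 := dims_E hF hc hE (Cfsg.Agent.H20.LF.inv_nine hF h) (Cfsg.Agent.H360.L34.nine_dims hF h)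
  omega

/-- submodules of type 9 are totally isotropic -/
theorem nine_iso (hF : Fintype.card F = 4) (hc : CT ρ) (hs : ∀ x y, B x y = B y x)
    (hi : ∀ g x y, B (ρ g x) (ρ g y) = B x y) (halt : ∀ x, B x x = 0) {b : Bool} {W : Submodule (ZMod 2) V}
    (h : IsNine ρ b W) : W ≤ B.orthogonal W := by
  have hinv := Cfsg.Agent.H20.LF.inv_nine hF h
  have hsimp := Cfsg.Agent.H360.L34.nine_simp hF h
  obtain ⟨n, hn0, hn⟩ := finrank_eq_one_iff'.1 (nine_VE hE hF hc h)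
  have h1 : ∀ w ∈ W, B n.1 w = 0 := orth_of hi (E_odd hF hE) hinv n.2.1 (fun w hw => by
    obtain ⟨c, hc⟩ := hn ⟨w, hw⟩
    have h2 : w = c • n.1 := (congrArg Subtype.val hc).symm
    rw [h2, map_smul, halt, smul_zero])
  rcases hsimp.2.2 _ (Cfsg.Agent.H592.L34.inv_inf hinv (Cfsg.Agent.H592.L34.inv_orth hi hinv)) inf_le_left with h2 | h2
  · exfalso
    apply hn0
    apply Subtype.ext
    have h4 : n.1 ∈ B.orthogonal W := by
      rw [LinearMap.BilinForm.mem_orthogonal_iff]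
      intro w hw
      show B w n.1 = 0
      rw [hs]
      exact h1 w hw
    have h3 : n.1 ∈ W ⊓ B.orthogonal W := ⟨n.2.2, h4⟩
    rw [h2, Submodule.mem_bot] at h3
    exact h3
  · exact inf_eq_left.1 h2

end nine

/-- the fixed vectors of a subgroup of odd order in a direct sum -/
theorem finrank_VE_sup {C : Subgroup (G3 F)} (hC : Odd (Nat.card C)) {W X : Submodule (ZMod 2) V} (hW : Inv ρ W)
    (hX : Inv ρ X) (h : W ⊓ X = ⊥) :
    finrank (ZMod 2) (VE ρ C ⊓ (W ⊔ X) : Submodule (ZMod 2) V) =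
      finrank (ZMod 2) (VE ρ C ⊓ W : Submodule (ZMod 2) V) + finrank (ZMod 2) (VE ρ C ⊓ X : Submodule (ZMod 2) V) := by
  have h1 : VE ρ C ⊓ (W ⊔ X) = (VE ρ C ⊓ W) ⊔ (VE ρ C ⊓ X) := by
    apply le_antisymm
    · rintro v ⟨hv, hv2⟩
      obtain ⟨a, ha, b, hb, rfl⟩ := Submodule.mem_sup.1 hv2
      rw [← av_eq_self ρ hC hv, map_add]
      exact Submodule.add_mem_sup ⟨av_mem ρ C a, av_mem_of_inv ρ W hW ha⟩ ⟨av_mem ρ C b, av_mem_of_inv ρ X hX hb⟩
    · exact sup_le (inf_le_inf_left _ le_sup_left) (inf_le_inf_left _ le_sup_right)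
  have h2 := Submodule.finrank_sup_add_finrank_inf_eq (VE ρ C ⊓ W) (VE ρ C ⊓ X)
  have h3 : (VE ρ C ⊓ W) ⊓ (VE ρ C ⊓ X) = ⊥ := by
    rw [eq_bot_iff, ← h]
    exact inf_le_inf inf_le_right inf_le_right
  rw [h3, finrank_bot, add_zero] at h2
  rw [h1, h2]

theorem dims_sup {W X : Submodule (ZMod 2) V} (hW : Inv ρ W) (hX : Inv ρ X) (h : W ⊓ X = ⊥)
    {n n3 n5 n7 m m3 m5 m7 : ℕ} (h1 : Dims ρ W n n3 n5 n7) (h2 : Dims ρ X m m3 m5 m7) :
    Dims ρ (W ⊔ X) (n + m) (n3 + m3) (n5 + m5) (n7 + m7) := by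
  refine ⟨?_, ?_, ?_, ?_⟩
  · have h3 := Submodule.finrank_sup_add_finrank_inf_eq W X
    rw [h, finrank_bot, add_zero, h1.1, h2.1] at h3
    exact h3
  · intro g hg hc
    rw [fx_eq, finrank_VE_sup (by rw [Nat.card_zpowers, hg]; decide) hW hX h, ← fx_eq, ← fx_eq, h1.2.1 g hg hc,
      h2.2.1 g hg hc]
  · intro g hg
    rw [fx_eq, finrank_VE_sup (by rw [Nat.card_zpowers, hg]; decide) hW hX h, ← fx_eq, ← fx_eq, h1.2.2.1 g hg,
      h2.2.2.1 g hg]
  · intro g hg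
    rw [fx_eq, finrank_VE_sup (by rw [Nat.card_zpowers, hg]; decide) hW hX h, ← fx_eq, ← fx_eq, h1.2.2.2 g hg,
      h2.2.2.2 g hg]

theorem dims_orth (hB : B.Nondegenerate) (hs : ∀ x y, B x y = B y x) (hi : ∀ g x y, B (ρ g x) (ρ g y) = B x y)
    {W : Submodule (ZMod 2) V} (hW : Inv ρ W) {n n3 n5 n7 m m3 m5 m7 : ℕ}
    (h1 : Dims ρ ⊤ n n3 n5 n7) (h2 : Dims ρ W m m3 m5 m7) :
    Dims ρ (B.orthogonal W) (n - m) (n3 - m3) (n5 - m5) (n7 - m7) := by
  have key : ∀ g : G3 F, Odd (orderOf g) → finrank (ZMod 2) (fx ρ g (B.orthogonal W)) =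
      finrank (ZMod 2) (fx ρ g ⊤) - finrank (ZMod 2) (fx ρ g W) := by
    intro g hg
    have h3 := finrank_VE_orth (ρ := ρ) hB hs hi (C := Subgroup.zpowers g) (by rw [Nat.card_zpowers]; exact hg) hW
    rw [← fx_eq, ← fx_eq] at h3
    rw [fx_eq g ⊤, inf_top_eq]
    omega
  refine ⟨?_, ?_, ?_, ?_⟩
  · have h3 := LinearMap.BilinForm.finrank_orthogonal hB W
    have h4 : finrank (ZMod 2) V = n := by rw [← finrank_top (ZMod 2) V]; exact h1.1
    rw [h3, h4, h2.1]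
  · intro g hg hc
    rw [key g (by rw [hg]; decide), h1.2.1 g hg hc, h2.2.1 g hg hc]
  · intro g hg
    rw [key g (by rw [hg]; decide), h1.2.2.1 g hg, h2.2.2.1 g hg]
  · intro g hg
    rw [key g (by rw [hg]; decide), h1.2.2.2 g hg, h2.2.2.2 g hg]

/-- the pattern of the subquotient -/
theorem pattern (hF : Fintype.card F = 4) (hc : CT ρ) {n5 n7 : ℕ} (hn5 : n5 = 68 ∨ n5 = 48) (hn7 : n7 = 80 ∨ n7 = 38)
    {A X : Submodule (ZMod 2) V} (hA : Inv ρ A) (hX : Inv ρ X) (hAX : A ≤ X) {m m3 m5 m7 l l3 l5 l7 : ℕ}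
    (h1 : Dims ρ A m m3 m5 m7) (h2 : Dims ρ X l l3 l5 l7) (e0 : l = m + 212) (e3 : l3 = m3 + 74)
    (e5 : l5 + 4 = m5 + n5) (e7 : l7 = m7 + n7) :
    Module.finrank (ZMod 2) X = Module.finrank (ZMod 2) A + (4 + 16 * 1 + 9 * 0 + 64 * 3) ∧
      (∀ g : G3 F, orderOf g = 3 → g ∉ Subgroup.center (G3 F) → Module.finrank (ZMod 2) (fx ρ g X) =
        Module.finrank (ZMod 2) (fx ρ g A) + (4 + 4 * 1 + 3 * 0 + 22 * 3)) ∧
      (∀ g : G3 F, orderOf g = 5 → Module.finrank (ZMod 2) (fx ρ g X) =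
        Module.finrank (ZMod 2) (fx ρ g A) + (4 + 4 * 1 + 0 + 12 * 3)) ∧
      ∀ g : G3 F, orderOf g = 7 → Module.finrank (ZMod 2) (fx ρ g X) =
        Module.finrank (ZMod 2) (fx ρ g A) + (4 + 4 * 1 + 10 * 3) := by
  obtain ⟨a, b, c, d, p0, p3, p5, p7⟩ := Cfsg.Agent.H482.LF.PL hF hc hA hX hAX
  obtain ⟨g3, hg3, hg3c⟩ := Cfsg.Agent.H592.L34.exists_three (F := F) hF
  obtain ⟨g5, hg5⟩ := Cfsg.Agent.H592.L34.exists_order (F := F) hF (p := 5) (by norm_num) (by norm_num)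
  obtain ⟨g7, hg7⟩ := Cfsg.Agent.H592.L34.exists_order (F := F) hF (p := 7) (by norm_num) (by norm_num)
  have q0 := p0
  have q3 := p3 g3 hg3 hg3c
  have q5 := p5 g5 hg5
  have q7 := p7 g7 hg7
  rw [h1.1, h2.1] at q0
  rw [h1.2.1 g3 hg3 hg3c, h2.2.1 g3 hg3 hg3c] at q3
  rw [h1.2.2.1 g5 hg5, h2.2.2.1 g5 hg5] at q5
  rw [h1.2.2.2 g7 hg7, h2.2.2.2 g7 hg7] at q7
  have r0 : 212 = a + 16 * b + 9 * c + 64 * d := by omega
  have r3 : 74 = a + 4 * b + 3 * c + 22 * d := by omega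
  have r5 : n5 = 4 + (a + 4 * b + c + 12 * d) := by omega
  have r7 : n7 = a + 4 * b + 10 * d := by omega
  have hd : d ≤ 3 := by omega
  have hall : a = 4 ∧ b = 1 ∧ c = 0 ∧ d = 3 := by
    clear p0 p3 p5 p7 q0 q3 q5 q7 h1 h2 e0 e3 e5 e7
    interval_cases d <;> rcases hn5 with rfl | rfl <;> rcases hn7 with rfl | rfl <;> omega
  obtain ⟨rfl, rfl, rfl, rfl⟩ := hall
  exact ⟨p0, p3, p5, p7⟩

end Cfsg.Agent.H955.L34
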