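import Cfsg.Agent.H955.L34.TwoNines

/-!
# S5917, box D2 (S-side of type D): the decomposition of the vectors fixed by the unitary group, from the statements on
modules without factors of type 9 (helper955)
-/

set_option autoImplicit false
set_option linter.unusedSectionVars false

namespace Cfsg.Agent.H955.L34

open Matrix Cfsg.Agent.H691.L34 Module Cfsg.Agent.H904.L34

variable {F : Type} [Field F] [Fintype F] {V : Type} [AddCommGroup V] [Module (ZMod 2) V] [Module.Finite (ZMod 2) V]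
  {ρ : Representation (ZMod 2) (G3 F) V} {B : LinearMap.BilinForm (ZMod 2) V}

/-- the vectors of `X` fixed modulo `A` -/
def FX (ρ : Representation (ZMod 2) (G3 F) V) (A X : Submodule (ZMod 2) V) : Submodule (ZMod 2) V where
  carrier := {v | v ∈ X ∧ ∀ g, ρ g v - v ∈ A}
  add_mem' := by
    rintro a b ⟨ha, ha2⟩ ⟨hb, hb2⟩
    refine ⟨X.add_mem ha hb, fun g => ?_⟩
    have h : ρ g (a + b) - (a + b) = (ρ g a - a) + (ρ g b - b) := by
      rw [map_add]
      abel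
    rw [h]
    exact A.add_mem (ha2 g) (hb2 g)
  zero_mem' := ⟨X.zero_mem, fun g => by rw [map_zero, sub_zero]; exact A.zero_mem⟩
  smul_mem' := by
    rintro c x ⟨hx, hx2⟩
    refine ⟨X.smul_mem c hx, fun g => ?_⟩
    rw [map_smul, ← smul_sub]
    exact A.smul_mem c (hx2 g)

/-- the trace of the unitary group -/
noncomputable def trR (ρ : Representation (ZMod 2) (G3 F) V) (v : V) : V :=
  ∑ᶠ g : {g : G3 F // hact g (1 : M3 F) = 1}, ρ (g : G3 F) v

theorem trR_fix (hF : Fintype.card F = 4) (v : V) {g : G3 F} (hg : hact g (1 : M3 F) = 1) :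
    ρ g (trR ρ v) = trR ρ v := by
  classical
  letI : Fintype (G3 F) := Fintype.ofFinite _
  rw [trR, finsum_eq_sum_of_fintype, map_sum]
  let e : {g : G3 F // hact g (1 : M3 F) = 1} ≃ {g : G3 F // hact g (1 : M3 F) = 1} :=
    { toFun := fun x => ⟨g * x.1, (RR hF).mul_mem hg x.2⟩
      invFun := fun x => ⟨g⁻¹ * x.1, (RR hF).mul_mem ((RR hF).inv_mem hg) x.2⟩
      left_inv := fun x => Subtype.ext (by show g⁻¹ * (g * x.1) = x.1; rw [inv_mul_cancel_left])
      right_inv := fun x => Subtype.ext (by show g * (g⁻¹ * x.1) = x.1; rw [mul_inv_cancel_left]) }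
  apply Fintype.sum_equiv e
  intro x
  show ρ g (ρ x.1 v) = ρ (g * x.1) v
  rw [mul_ap]

section main

variable {E : Subgroup (G3 F)} (hE : ∀ g : G3 F, g ∈ E ↔ (hact g (1 : M3 F) = 1 ∧ g ^ 3 = 1)) {i j : G3 F}
  (hi1 : hact i (1 : M3 F) = 1) (hj1 : hact j (1 : M3 F) = 1)
  (hgen : ∀ v : V, v ∈ VE ρ E → ρ i v = v → ρ j v = v → ∀ g, hact g (1 : M3 F) = 1 → ρ g v = v)

include hE hi1 hj1 hgen

/-- the two maps `ρ i - 1`, `ρ j - 1` on the fixed vectors of `E` in the space of the vectors fixed modulo `A` -/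
theorem two_gen (hF : Fintype.card F = 4) {A X : Submodule (ZMod 2) V} (hA : Inv ρ A) (hAX : A ≤ X)
    (hR : ∀ v, (∀ g, ρ g v + v ∈ A) → (∀ g, hact g (1 : M3 F) = 1 → ρ g v = v) → v ∈ A) {a f : ℕ}
    (ha : finrank (ZMod 2) (VE ρ E ⊓ A : Submodule (ZMod 2) V) = a)
    (hf : finrank (ZMod 2) (FX ρ A X) = finrank (ZMod 2) A + f) :
    f ≤ 2 * a ∧ (2 * a ≤ f → ∀ w ∈ VE ρ E ⊓ A, ∃ x ∈ VE ρ E, ρ i x - x = w) := by
  have hnorm : ∀ h : G3 F, hact h (1 : M3 F) = 1 → ∀ x ∈ VE ρ E, ρ h x ∈ VE ρ E := by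
    intro h hh x hx
    rw [mem_VE] at hx ⊢
    intro g hg
    have h1 : h⁻¹ * g * h ∈ E := by
      have h2 := mem_E_of hF hE (z := h⁻¹) ((RR hF).inv_mem hh) g hg
      rwa [inv_inv] at h2
    have h2 : ρ g (ρ h x) = ρ h (ρ (h⁻¹ * g * h) x) := by
      rw [← mul_ap, ← mul_ap]
      congr 2
      group
    rw [h2, hx _ h1]
  have hAD : A ≤ FX ρ A X := fun w hw => ⟨hAX hw, fun g => A.sub_mem (hA g w hw) hw⟩
  have h1 := finrank_VE_triv (ρ := ρ) (E_odd hF hE) hAD (fun x hx => hx.2)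
  have hmap : ∀ h : G3 F, hact h (1 : M3 F) = 1 → ∀ x ∈ VE ρ E ⊓ FX ρ A X,
      (ρ h - LinearMap.id : V →ₗ[ZMod 2] V) x ∈ VE ρ E ⊓ A := fun h hh x hx =>
    ⟨(VE ρ E).sub_mem (hnorm h hh x hx.1) hx.1, hx.2.2 h⟩
  have h2 := two_maps (D := VE ρ E ⊓ FX ρ A X) (A := VE ρ E ⊓ A) (K := VE ρ E ⊓ A) (f := ρ i - LinearMap.id)
    (g := ρ j - LinearMap.id) (hmap i hi1) (hmap j hj1) (fun x hx h3 h4 => by
      refine ⟨hx.1, hR x (fun g => ?_) ?_⟩
      · rw [← vsub]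
        exact hx.2.2 g
      · exact hgen x hx.1 (sub_eq_zero.1 h3) (sub_eq_zero.1 h4))
  refine ⟨by omega, fun h3 w hw => ?_⟩
  obtain ⟨x, hx, hx2⟩ := h2.2 (by omega) w hw
  exact ⟨x, hx.1, hx2⟩

theorem two_nines_of (hF : Fintype.card F = 4) (hc : CT ρ)
    (hNF : ∀ A X : Submodule (ZMod 2) V, Inv ρ A → Inv ρ X → A ≤ X →
      (Module.finrank (ZMod 2) X = Module.finrank (ZMod 2) A + (4 + 16 * 1 + 9 * 0 + 64 * 3) ∧
      (∀ g : G3 F, orderOf g = 3 → g ∉ Subgroup.center (G3 F) → Module.finrank (ZMod 2) (fx ρ g X) =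
        Module.finrank (ZMod 2) (fx ρ g A) + (4 + 4 * 1 + 3 * 0 + 22 * 3)) ∧
      (∀ g : G3 F, orderOf g = 5 → Module.finrank (ZMod 2) (fx ρ g X) =
        Module.finrank (ZMod 2) (fx ρ g A) + (4 + 4 * 1 + 0 + 12 * 3)) ∧
      ∀ g : G3 F, orderOf g = 7 → Module.finrank (ZMod 2) (fx ρ g X) =
        Module.finrank (ZMod 2) (fx ρ g A) + (4 + 4 * 1 + 10 * 3)) →
      finrank (ZMod 2) (FX ρ A X) = finrank (ZMod 2) A + 4 ∧
      ∀ v ∈ X, (∀ r : G3 F, hact r (1 : M3 F) = 1 → ρ r v - v ∈ A) →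
        ∃ u ∈ X, (∀ e ∈ E, ρ e u = u) ∧ v - trR ρ u ∈ FX ρ A X)
    {n5 n7 : ℕ} (hn5 : n5 = 68 ∨ n5 = 48)
    (hn7 : n7 = 80 ∨ n7 = 38) (hd : Dims ρ (⊤ : Submodule (ZMod 2) V) 248 86 n5 n7)
    (hB : B.Nondegenerate) (hs : ∀ x y, B x y = B y x)
    (hi : ∀ g x y, B (ρ g x) (ρ g y) = B x y) (h0 : fixAll ρ = ⊥) {b : Bool} {N N' : Submodule (ZMod 2) V}
    (hN : IsNine ρ b N) (hN' : IsNine ρ (!b) N') {v : V} (hv : ∀ g : G3 F, hact g (1 : M3 F) = 1 → ρ g v = v) :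
    ∃ u : V, (∀ e ∈ E, ρ e u = u) ∧ ∃ w ∈ N ⊔ N', (∀ g : G3 F, hact g (1 : M3 F) = 1 → ρ g w = w) ∧
      v = trR ρ u + w := by
  have halt := alt_of hB hs hi h0
  have iN := Cfsg.Agent.H20.LF.inv_nine hF hN
  have iN' := Cfsg.Agent.H20.LF.inv_nine hF hN'
  have sN := Cfsg.Agent.H360.L34.nine_simp hF hN
  have sN' := Cfsg.Agent.H360.L34.nine_simp hF hN'
  have dN := Cfsg.Agent.H360.L34.nine_dims hF hN
  have dN' := Cfsg.Agent.H360.L34.nine_dims hF hN'
  -- `N ⊓ N' = ⊥`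
  have hNN : N ⊓ N' = ⊥ := by
    rcases sN.2.2 _ (Cfsg.Agent.H592.L34.inv_inf iN iN') inf_le_left with h | h
    · exact h
    · exfalso
      have h1 : N ≤ N' := inf_eq_left.1 h
      rcases sN'.2.2 N iN h1 with h2 | h2
      · exact sN.2.1 h2
      · subst h2
        cases b
        · exact Cfsg.Agent.H360.L34.nine_ne hF hN hN'
        · exact Cfsg.Agent.H360.L34.nine_ne hF hN' hN
  have iW : Inv ρ (N ⊔ N') := by
    intro g w hw
    obtain ⟨a, ha, c, hc, rfl⟩ := Submodule.mem_sup.1 hw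
    rw [map_add]
    exact Submodule.add_mem_sup (iN g a ha) (iN' g c hc)
  have dW : Dims ρ (N ⊔ N') 18 6 2 0 := dims_sup iN iN' hNN dN dN'
  have iso1 := nine_iso hE hF hc hs hi halt hN
  have iso2 := nine_iso hE hF hc hs hi halt hN'
  have hmo : ∀ (X : Submodule (ZMod 2) V) (x : V), x ∈ B.orthogonal X ↔ ∀ y ∈ X, B y x = 0 := fun X x =>
    LinearMap.BilinForm.mem_orthogonal_iff
  have hr2 : ∀ v : V, (∀ g, ρ g v + v ∈ N ⊔ N') → (∀ g, hact g (1 : M3 F) = 1 → ρ g v = v) → v ∈ N ⊔ N' :=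
    fun v h1 h2 => Cfsg.Agent.H20.LF.alpha2_mem hF hN hN' hNN h0 h1 h2
  have io := Cfsg.Agent.H592.L34.inv_orth hi iW
  have dWo := dims_orth hB hs hi iW hd dW
  have vW : finrank (ZMod 2) (VE ρ E ⊓ (N ⊔ N') : Submodule (ZMod 2) V) = 2 := by
    have h1 := dims_E hF hc hE iW dW
    omega
  rcases sN'.2.2 _ (Cfsg.Agent.H592.L34.inv_inf iN' (Cfsg.Agent.H592.L34.inv_orth hi iN)) inf_le_left with hcase | hcase
  · -- `N ⊔ N'` is nondegenerate : impossible
    exfalso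
    have hdis : (N ⊔ N') ⊓ B.orthogonal (N ⊔ N') = ⊥ := by
      rw [eq_bot_iff]
      rintro x ⟨hx, hx2⟩
      obtain ⟨a, ha, c, hc, rfl⟩ := Submodule.mem_sup.1 hx
      replace hx2 := (hmo _ _).1 hx2
      -- the part in `N'`
      have h1 : c ∈ N' ⊓ B.orthogonal N := by
        refine ⟨hc, (hmo _ _).2 fun y hy => ?_⟩
        have h2 := hx2 y (Submodule.mem_sup_left hy)
        rw [map_add, (hmo _ _).1 (iso1 ha) y hy, zero_add] at h2
        exact h2
      rw [hcase, Submodule.mem_bot] at h1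
      subst h1
      rw [add_zero] at hx2 ⊢
      rcases sN.2.2 _ (Cfsg.Agent.H592.L34.inv_inf iN (Cfsg.Agent.H592.L34.inv_orth hi iN')) inf_le_left with h3 | h3
      · have h4 : a ∈ N ⊓ B.orthogonal N' := ⟨ha, (hmo _ _).2 fun y hy => hx2 y (Submodule.mem_sup_right hy)⟩
        rw [h3] at h4
        exact h4
      · exfalso
        apply sN'.2.1
        rw [← hcase]
        symm
        rw [inf_eq_left]
        intro y hy
        rw [hmo]
        intro x hx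
        rw [hs]
        exact (hmo _ _).1 (inf_eq_left.1 h3 hx) y hy
    have h16 : ¬ 16 ∣ finrank (ZMod 2) (B.orthogonal (N ⊔ N')) := by
      rw [dWo.1]
      norm_num
    obtain ⟨b2, M, hM, hMle⟩ := Cfsg.Agent.H592.L34.exists_nine_in hF hc hn5 hn7 hd B hB hs hi h0 io h16
    have iM := Cfsg.Agent.H20.LF.inv_nine hF hM
    have dM := Cfsg.Agent.H360.L34.nine_dims hF hM
    have isoM := nine_iso hE hF hc hs hi halt hM
    have hWM : (N ⊔ N') ⊓ M = ⊥ := by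
      rw [eq_bot_iff, ← hdis]
      exact inf_le_inf_left _ hMle
    have i3 : Inv ρ ((N ⊔ N') ⊔ M) := by
      intro g w hw
      obtain ⟨a, ha, c, hc, rfl⟩ := Submodule.mem_sup.1 hw
      rw [map_add]
      exact Submodule.add_mem_sup (iW g a ha) (iM g c hc)
    have d3 : Dims ρ ((N ⊔ N') ⊔ M) 27 9 3 0 := dims_sup iW iM hWM dW dM
    have d3o := dims_orth hB hs hi i3 hd d3
    have hle : M ≤ B.orthogonal ((N ⊔ N') ⊔ M) := by
      intro x hx
      rw [hmo]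
      intro y hy
      obtain ⟨a, ha, c, hc, rfl⟩ := Submodule.mem_sup.1 hy
      rw [map_add, LinearMap.add_apply, (hmo _ _).1 (hMle hx) a ha, (hmo _ _).1 (isoM hx) c hc, add_zero]
    have hpat := pattern hF hc hn5 hn7 iM (Cfsg.Agent.H592.L34.inv_orth hi i3) hle dM d3o (by norm_num) (by norm_num)
      (by omega) (by omega)
    have h5 := (hNF _ _ iM (Cfsg.Agent.H592.L34.inv_orth hi i3) hle hpat).1
    have h6 := (two_gen hE hi1 hj1 hgen hF iM hle
      (fun v h1 h2 => Cfsg.Agent.H20.LF.alpha_mem hF hM h0 h1 h2) (nine_VE hE hF hc hM) h5).1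
    omega
  · -- `N ⊔ N'` is totally isotropic
    have h12 : N' ≤ B.orthogonal N := inf_eq_left.1 hcase
    have hle : N ⊔ N' ≤ B.orthogonal (N ⊔ N') := by
      intro x hx
      obtain ⟨a, ha, c, hc, rfl⟩ := Submodule.mem_sup.1 hx
      rw [hmo]
      intro y hy
      obtain ⟨a', ha', c', hc', rfl⟩ := Submodule.mem_sup.1 hy
      rw [map_add, map_add, LinearMap.add_apply, LinearMap.add_apply, (hmo _ _).1 (iso1 ha) a' ha',
        (hmo _ _).1 (iso2 hc) c' hc', (hmo _ _).1 (h12 hc) a' ha', hs c' a, (hmo _ _).1 (h12 hc') a ha]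
      simp
    have hpat := pattern hF hc hn5 hn7 iW io hle dW dWo (by norm_num) (by norm_num) (by omega) (by omega)
    obtain ⟨h5, h6⟩ := hNF _ _ iW io hle hpat
    have h7 := (two_gen hE hi1 hj1 hgen hF iW hle hr2 vW h5).2 (by norm_num)
    -- `v` is orthogonal to `N ⊔ N'`
    have hvE : v ∈ VE ρ E := by
      rw [mem_VE]
      intro g hg
      exact hv g ((hE g).1 hg).1
    have h8 : ∀ w ∈ VE ρ E ⊓ (N ⊔ N'), B v w = 0 := by
      intro w hw
      obtain ⟨x, hx, rfl⟩ := h7 w hw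
      rw [map_sub, form_inv hi, hv _ ((RR hF).inv_mem hi1), sub_self]
    have h9 : v ∈ B.orthogonal (N ⊔ N') := by
      rw [hmo]
      intro y hy
      rw [hs]
      exact orth_of hi (E_odd hF hE) iW hvE h8 y hy
    obtain ⟨u, hu, hue, hud⟩ := h6 v h9 (fun r hr => by
      rw [hv r hr, sub_self]
      exact Submodule.zero_mem _)
    refine ⟨u, hue, v - trR ρ u, ?_, ?_, by abel⟩
    · apply hr2
      · intro g
        rw [← vsub]
        exact hud.2 g
      · intro g hg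
        rw [map_sub, hv g hg, trR_fix hF u hg]
    · intro g hg
      rw [map_sub, hv g hg, trR_fix hF u hg]

end main

end Cfsg.Agent.H955.L34
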